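import Mathlib
import Cfsg.Prelude.Def_Classical
import Cfsg.Agent.LieClassical.HermBasic
import Cfsg.Agent.ClassicalGeometry.HermFrame
set_option linter.all false

set_option autoImplicit false

/-!
# Totally isotropic subspaces of the Hermitian space of dimension 6 over the field of order 4
-/

namespace Cfsg.Agent.Fischer545.Herm6

open Cfsg Cfsg.Agent.LieClassical.HermBasic Cfsg.Agent.ClassicalGeometry.HermFrame Module

variable {F : Type*} [Field F] [Fintype F]

/-- totally isotropic subspaces -/
def TI (W : Submodule F (Fin 6 → F)) : Prop := ∀ u ∈ W, ∀ v ∈ W, hermForm 6 F 2 u v = 0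

theorem finrank_le (hF : Fintype.card F = 2 ^ 2) {W : Submodule F (Fin 6 → F)} (hW : TI W) :
    finrank F W ≤ 3 := by
  classical
  set k := finrank F W with hk
  let b := Module.finBasisOfFinrankEq F W hk.symm
  let e : Fin k → (Fin 6 → F) := fun i => (b i : Fin 6 → F)
  have heW : ∀ i, e i ∈ W := fun i => (b i).2
  have hli : LinearIndependent F e :=
    b.linearIndependent.map' W.subtype (Submodule.ker_subtype W)
  have hee : ∀ i j, hermForm 6 F 2 (e i) (e j) = 0 := fun i j => hW _ (heW i) _ (heW j)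
  obtain ⟨f, hef, hff⟩ := exists_hyperbolic hF hli hee
  have hfe : ∀ i j, hermForm 6 F 2 (f i) (e j) = if i = j then 1 else 0 := by
    intro i j
    rw [herm_swap hF (e j) (f i), hef]
    split_ifs with h1 h2 h2
    · exact one_pow 2
    · exact absurd h1.symm h2
    · exact absurd h2.symm h1
    · exact zero_pow_q hF
  set T : (Fin 6 → F) →ₗ[F] (Fin k → F) × (Fin k → F) :=
    (LinearMap.pi fun i => leftFun 2 (e i)).prod (LinearMap.pi fun i => leftFun 2 (f i)) with hT
  have hTapp : ∀ v, T v = (fun i => hermForm 6 F 2 v (e i), fun i => hermForm 6 F 2 v (f i)) :=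
    fun v => rfl
  have hTsurj : Function.Surjective T := by
    rintro ⟨c, d⟩
    refine ⟨∑ i, c i • f i + ∑ i, d i • e i, ?_⟩
    rw [hTapp]
    refine Prod.ext ?_ ?_
    · funext j
      simp only [herm_add_left, herm_sum_left, herm_smul_left, hfe, hee, mul_zero,
        Finset.sum_const_zero, add_zero, mul_ite, mul_one, Finset.sum_ite_eq',
        Finset.mem_univ, if_true]
    · funext j
      simp only [herm_add_left, herm_sum_left, herm_smul_left, hef, hff, mul_zero,
        Finset.sum_const_zero, zero_add, mul_ite, mul_one, Finset.sum_ite_eq',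
        Finset.mem_univ, if_true]
  have h1 := LinearMap.finrank_range_add_finrank_ker T
  rw [LinearMap.range_eq_top.2 hTsurj, finrank_top, Module.finrank_prod,
    Module.finrank_fin_fun, Module.finrank_fin_fun] at h1
  omega

/-- vectors orthogonal to `W` in terms of a frame -/
theorem frame (hF : Fintype.card F = 2 ^ 2) {k m : ℕ} (hn : 6 = k + (m + k))
    {W : Submodule F (Fin 6 → F)} (hWk : finrank F W = k) (hW : TI W) :
    ∃ g : Fin m → (Fin 6 → F),
      (∀ w ∈ W, ∀ j, hermForm 6 F 2 w (g j) = 0) ∧ (∀ w ∈ W, ∀ j, hermForm 6 F 2 (g j) w = 0) ∧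
      (∀ i j, hermForm 6 F 2 (g i) (g j) = if i = j then 1 else 0) ∧
      ∀ v, (∀ w ∈ W, hermForm 6 F 2 v w = 0) →
        ∃ l ∈ W, v = l + ∑ j, hermForm 6 F 2 v (g j) • g j := by
  classical
  obtain ⟨e, g, f, hspan, hee, heg, hef, hgg, hgf, hff⟩ := exists_frame hF hn hWk hW
  have hWe : ∀ i, e i ∈ W := fun i => hspan ▸ Submodule.subset_span ⟨i, rfl⟩
  have hge : ∀ i j, hermForm 6 F 2 (g i) (e j) = 0 := fun i j => herm_eq_zero_swap hF (heg j i)
  have hfg : ∀ i j, hermForm 6 F 2 (f i) (g j) = 0 := fun i j => herm_eq_zero_swap hF (hgf j i)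
  have hfe : ∀ i j, hermForm 6 F 2 (f i) (e j) = if i = j then 1 else 0 := by
    intro i j
    rw [herm_swap hF (e j) (f i), hef]
    split_ifs with h1 h2 h2
    · exact one_pow 2
    · exact absurd h1.symm h2
    · exact absurd h2.symm h1
    · exact zero_pow_q hF
  have h1 : ∀ w ∈ W, ∀ j, hermForm 6 F 2 w (g j) = 0 := by
    intro w hw j
    rw [← hspan] at hw
    induction hw using Submodule.span_induction with
    | mem x hx =>
      obtain ⟨i, rfl⟩ := hx
      exact heg i j
    | zero => exact herm_zero_left _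
    | add x y _ _ hx hy => rw [herm_add_left, hx, hy, add_zero]
    | smul c x _ hx => rw [herm_smul_left, hx, mul_zero]
  refine ⟨g, h1, fun w hw j => herm_eq_zero_swap hF (h1 w hw j), hgg, ?_⟩
  intro v hv
  refine ⟨∑ i, hermForm 6 F 2 v (f i) • e i,
    W.sum_mem fun i _ => W.smul_mem _ (hWe i), ?_⟩
  set T : (Fin 6 → F) →ₗ[F] (Fin k → F) × ((Fin m → F) × (Fin k → F)) :=
    (LinearMap.pi fun i => leftFun 2 (e i)).prod
      ((LinearMap.pi fun i => leftFun 2 (g i)).prod (LinearMap.pi fun i => leftFun 2 (f i)))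
    with hT
  have hTapp : ∀ v, T v = (fun i => hermForm 6 F 2 v (e i), fun i => hermForm 6 F 2 v (g i),
      fun i => hermForm 6 F 2 v (f i)) := fun v => rfl
  have hTsurj : Function.Surjective T := by
    rintro ⟨c, a, d⟩
    refine ⟨∑ i, c i • f i + (∑ i, a i • g i + ∑ i, d i • e i), ?_⟩
    rw [hTapp]
    refine Prod.ext ?_ (Prod.ext ?_ ?_)
    · funext j
      simp only [herm_add_left, herm_sum_left, herm_smul_left, hfe, hee, hge, mul_zero,
        Finset.sum_const_zero, add_zero, mul_ite, mul_one, Finset.sum_ite_eq',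
        Finset.mem_univ, if_true]
    · funext j
      simp only [herm_add_left, herm_sum_left, herm_smul_left, hfg, hgg, heg, mul_zero,
        Finset.sum_const_zero, zero_add, add_zero, mul_ite, mul_one, Finset.sum_ite_eq',
        Finset.mem_univ, if_true]
    · funext j
      simp only [herm_add_left, herm_sum_left, herm_smul_left, hef, hff, hgf, mul_zero,
        Finset.sum_const_zero, zero_add, mul_ite, mul_one, Finset.sum_ite_eq',
        Finset.mem_univ, if_true]
  have hTinj : Function.Injective T := by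
    rw [LinearMap.injective_iff_surjective_of_finrank_eq_finrank]
    · exact hTsurj
    · rw [Module.finrank_prod, Module.finrank_prod, Module.finrank_fin_fun,
        Module.finrank_fin_fun, Module.finrank_fin_fun]
      exact hn
  apply hTinj
  rw [hTapp, hTapp]
  refine Prod.ext ?_ (Prod.ext ?_ ?_)
  · funext j
    simp only [herm_add_left, herm_sum_left, herm_smul_left, hee, hge, mul_zero,
      Finset.sum_const_zero, add_zero]
    exact hv _ (hWe j)
  · funext j
    simp only [herm_add_left, herm_sum_left, herm_smul_left, hgg, heg, mul_zero,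
      Finset.sum_const_zero, zero_add, mul_ite, mul_one, Finset.sum_ite_eq',
      Finset.mem_univ, if_true]
  · funext j
    simp only [herm_add_left, herm_sum_left, herm_smul_left, hef, hgf, mul_zero,
      Finset.sum_const_zero, add_zero, mul_ite, mul_one, Finset.sum_ite_eq',
      Finset.mem_univ, if_true]

/-- a plane is its own perp -/
theorem mem_of_perp (hF : Fintype.card F = 2 ^ 2) {W : Submodule F (Fin 6 → F)} (hW : TI W)
    (h3 : finrank F W = 3) {v : Fin 6 → F} (hv : ∀ w ∈ W, hermForm 6 F 2 v w = 0) : v ∈ W := by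
  obtain ⟨g, -, -, -, h⟩ := frame hF (k := 3) (m := 0) (by norm_num) h3 hW
  obtain ⟨l, hl, h1⟩ := h v hv
  rw [Finset.univ_eq_empty, Finset.sum_empty, add_zero] at h1
  rw [h1]; exact hl

/-- a totally isotropic subspace of dimension at most 2 extends -/
theorem exists_extend (hF : Fintype.card F = 2 ^ 2) {W : Submodule F (Fin 6 → F)} (hW : TI W)
    (h3 : finrank F W ≠ 3) : ∃ v, hermForm 6 F 2 v v = 0 ∧ v ∉ W ∧
      ∀ w ∈ W, hermForm 6 F 2 v w = 0 := by
  have h2 := finrank_le hF hW
  obtain ⟨m, hm⟩ : ∃ m, 6 = finrank F W + (m + 2 + finrank F W) :=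
    ⟨4 - 2 * finrank F W, by omega⟩
  obtain ⟨g, hg1, hg2, hgg, -⟩ := frame hF hm rfl hW
  have e0 : hermForm 6 F 2 (g 0) (g 0) = 1 := by rw [hgg, if_pos rfl]
  have e1 : hermForm 6 F 2 (g 1) (g 1) = 1 := by rw [hgg, if_pos rfl]
  have e01 : hermForm 6 F 2 (g 0) (g 1) = 0 := by
    rw [hgg, if_neg]; exact Fin.zero_ne_one
  have e10 : hermForm 6 F 2 (g 1) (g 0) = 0 := by
    rw [hgg, if_neg]; exact Fin.zero_ne_one.symm
  have hchar : (1 : F) + 1 = 0 := by
    have h := FiniteField.cast_card_eq_zero F
    rw [hF] at h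
    have h4 : (4 : F) = 0 := by exact_mod_cast h
    have h5 : ((1 : F) + 1) * (1 + 1) = 0 := by
      have : ((1 : F) + 1) * (1 + 1) = 4 := by norm_num
      rw [this, h4]
    rcases mul_eq_zero.1 h5 with h6 | h6 <;> exact h6
  refine ⟨g 0 + g 1, ?_, ?_, ?_⟩
  · rw [herm_add_left, herm_add_right hF, herm_add_right hF, e0, e1, e01, e10, add_zero, zero_add,
      hchar]
  · intro hmem
    have h4 := hg1 _ hmem 0
    rw [herm_add_left, e0, e10, add_zero] at h4
    exact one_ne_zero h4
  · intro w hw
    rw [herm_add_left, hg2 w hw, hg2 w hw, add_zero]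

end Cfsg.Agent.Fischer545.Herm6
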